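import Cfsg.Agent.DecompMax.FrameRigid

/-!
Eigenspaces of monomial involutions, and the bound they put on supports.
-/

set_option autoImplicit false
set_option linter.style.haveILetI false
set_option linter.unusedSectionVars false
set_option linter.unusedVariables false

namespace Cfsg.Agent.DecompMax.OF

open QuadraticMap Module Cfsg.Agent.Classical
open scoped Matrix

universe u

variable {F : Type u} [Field F] [Finite F] {ι : Type} [Fintype ι] [DecidableEq ι]

/-- The eigenspace of an isometry for `ε`. -/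
def eigSp (u : OG ι F) (ε : F) : Submodule F (ι → F) :=
  LinearMap.ker (u.1.toLinearMap - ε • LinearMap.id)

theorem mem_eigSp {u : OG ι F} {ε : F} {v : ι → F} : v ∈ eigSp u ε ↔ u.1 v = ε • v := by
  simp [eigSp, LinearMap.mem_ker, sub_eq_zero]

/-- Orbits of a monomial involution carrying its eigenvectors. -/
theorem eig_orbits (h2 : Two F) {u : OG ι F} (hu : Mon u) (huu : ∀ v, u.1 (u.1 v) = v) {ε : F}
    (hε : ε * ε = 1) :
    ∃ R S : Finset ι, (∀ k, k ∈ S ↔ u.1 (sv F k) ≠ (-ε) • sv F k) ∧ R ⊆ S ∧
      (∀ v ∈ eigSp u ε, supp v ⊆ S) ∧ S.card ≤ 2 * R.card ∧ finrank F (eigSp u ε) = R.card ∧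
      ((∀ k, u.1 (sv F k) ≠ ε • sv F k) → S.card = 2 * R.card) ∧
      (S.card = R.card → ∀ k ∈ S, u.1 (sv F k) = ε • sv F k) := by
  classical
  have hcol : ∀ k, ∃ j, ∃ s : F, s * s = 1 ∧ u.1 (sv F k) = s • sv F j := fun k => by
    obtain ⟨j, hj | hj⟩ := hu.col h2 k
    · exact ⟨j, 1, one_mul 1, by rw [hj, one_smul]⟩
    · exact ⟨j, -1, by ring, by rw [hj, neg_one_smul]⟩
  choose π s hs hπ using hcol
  have hs0 : ∀ k, s k ≠ 0 := fun k h => by
    have := hs k; rw [h, mul_zero] at this; exact zero_ne_one this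
  have hππ : ∀ k, π (π k) = k := by
    intro k
    have h := huu (sv F k)
    rw [hπ, map_smul, hπ, smul_smul] at h
    by_contra hne
    have h' := congrFun h k
    simp [Ne.symm hne] at h'
  have hsπ : ∀ k, s (π k) = s k := by
    intro k
    have h := congrFun (huu (sv F k)) k
    rw [hπ, map_smul, hπ, smul_smul, hππ] at h
    simp at h
    linear_combination (s k) * h - s (π k) * hs k
  -- coordinates of images
  have hval : ∀ v k, s k * u.1 v (π k) = v k := fun v k => by
    have := OG.dot h2 u (sv F k) v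
    rw [hπ, smul_dotProduct, dot_sv, dot_sv, smul_eq_mul] at this
    exact this
  obtain ⟨e⟩ : Nonempty (ι ≃ Fin (Fintype.card ι)) := ⟨Fintype.equivFin ι⟩
  set S := Finset.univ.filter fun k => u.1 (sv F k) ≠ (-ε) • sv F k with hS
  have hmemS : ∀ k, k ∈ S ↔ u.1 (sv F k) ≠ (-ε) • sv F k := fun k => by simp [hS]
  set R := S.filter fun k => e k ≤ e (π k) with hR
  have hSπ : ∀ k ∈ S, π k ∈ S := by
    intro k hk
    rw [hmemS] at hk ⊢
    intro h
    apply hk
    have h' := congrArg u.1 h
    rw [huu, map_smul] at h'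
    rcases eq_or_ne (π k) k with hkk | hkk
    · rw [hkk] at h; exact h
    · rw [hπ, hππ] at h
      have := congrFun h k
      simp [Ne.symm hkk, hs0] at this
  have hsupp : ∀ v ∈ eigSp u ε, supp v ⊆ S := by
    intro v hv k hk
    rw [hmemS]
    intro h
    have h' := OG.dot h2 u (sv F k) v
    rw [mem_eigSp.1 hv, h, smul_dotProduct, dotProduct_smul, dot_sv, smul_eq_mul, smul_eq_mul] at h'
    refine mem_supp.1 hk ((mul_eq_zero.1 ?_).resolve_left h2)
    linear_combination -h' - v k * hε
  -- the vectors of the orbits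
  let W : ↥R → (ι → F) := fun r => sv F r.1 + ε • u.1 (sv F r.1)
  have hWe : ∀ r, W r ∈ eigSp u ε := fun r => by
    rw [mem_eigSp]
    simp only [W, map_add, map_smul, huu, smul_add, smul_smul, hε, one_smul]
    abel
  have hWk : ∀ (r : ↥R) (k : ι), k ∈ R → W r k ≠ 0 → k = r.1 := by
    intro r k hk h
    by_contra hne
    have hkπ : k = π r.1 := by
      by_contra hne'
      apply h
      simp [W, hπ, hne, hne']
    have h1 := (Finset.mem_filter.1 r.2).2
    have h2' := (Finset.mem_filter.1 hk).2
    rw [hkπ, hππ] at h2'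
    exact hne (hkπ.trans (e.injective (le_antisymm h2' h1)))
  have hWr : ∀ r : ↥R, W r r.1 ≠ 0 := by
    intro r h
    have hr := (hmemS r.1).1 (Finset.mem_filter.1 r.2).1
    rcases eq_or_ne (π r.1) r.1 with hpr | hpr
    · simp [W, hπ, hpr] at h
      apply hr
      rw [hπ, hpr]
      congr 1
      linear_combination ε * h - s r.1 * hε
    · simp [W, hπ, Ne.symm hpr] at h
  have hli : LinearIndependent F W := by
    rw [Fintype.linearIndependent_iff]
    intro c hc r
    have h := congrFun hc r.1
    simp only [Finset.sum_apply, Pi.smul_apply, smul_eq_mul, Pi.zero_apply] at h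
    rw [Finset.sum_eq_single r (fun q _ hq => ?_) (by simp)] at h
    · exact (mul_eq_zero.1 h).resolve_right (hWr r)
    · by_contra hne
      exact hq (Subtype.ext (hWk q r.1 r.2 (right_ne_zero_of_mul hne)).symm)
  have hspan : eigSp u ε = Submodule.span F (Set.range W) := by
    refine le_antisymm (fun v hv => ?_) (Submodule.span_le.2 (by rintro _ ⟨r, rfl⟩; exact hWe r))
    set c : ↥R → F := fun r => v r.1 / W r r.1
    set t := ∑ r, c r • W r with ht
    have hte : t ∈ eigSp u ε := sum_mem fun r _ => (eigSp u ε).smul_mem _ (hWe r)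
    have hzero : v - t = 0 := by
      have hwe := sub_mem hv hte
      have hR0 : ∀ k (hk : k ∈ R), (v - t) k = 0 := by
        intro k hk
        simp only [Pi.sub_apply, ht, Finset.sum_apply, Pi.smul_apply, smul_eq_mul]
        rw [Finset.sum_eq_single ⟨k, hk⟩ (fun q _ hq => ?_) (by simp)]
        · rw [div_mul_cancel₀ _ (hWr ⟨k, hk⟩), sub_self]
        · by_contra hne
          exact hq (Subtype.ext (hWk q k hk (right_ne_zero_of_mul hne)).symm)
      funext k
      by_cases hkS : k ∈ S
      · by_cases hkR : k ∈ R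
        · exact hR0 k hkR
        · have hπR : π k ∈ R := by
            refine Finset.mem_filter.2 ⟨hSπ k hkS, ?_⟩
            rw [hππ]
            exact (not_le.1 fun h => hkR (Finset.mem_filter.2 ⟨hkS, h⟩)).le
          have h := hval (v - t) k
          rw [mem_eigSp.1 hwe, Pi.smul_apply, hR0 _ hπR, smul_zero, mul_zero] at h
          exact h.symm
      · exact not_mem_supp.1 fun h => hkS (hsupp _ hwe h)
    rw [sub_eq_zero.1 hzero]
    exact sum_mem fun r _ => Submodule.smul_mem _ _ (Submodule.subset_span ⟨r, rfl⟩)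
  have hsub : S ⊆ R ∪ R.image π := by
    intro k hk
    rw [Finset.mem_union, Finset.mem_image]
    by_cases hkR : k ∈ R
    · exact Or.inl hkR
    · refine Or.inr ⟨π k, Finset.mem_filter.2 ⟨hSπ k hk, ?_⟩, hππ k⟩
      rw [hππ]
      exact (not_le.1 fun h => hkR (Finset.mem_filter.2 ⟨hk, h⟩)).le
  refine ⟨R, S, hmemS, Finset.filter_subset _ _, hsupp, ?_, ?_, fun hno => ?_, fun hcard k hk => ?_⟩
  · have := (Finset.card_le_card hsub).trans (Finset.card_union_le _ _)
    have := Finset.card_image_le (s := R) (f := π)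
    omega
  · rw [hspan, finrank_span_eq_card hli, Fintype.card_coe]
  · have hfix : ∀ k ∈ S, π k ≠ k := by
      intro k hk h
      have hk' := (hmemS k).1 hk
      have hπk := hπ k
      rw [h] at hπk
      have h0 : (s k - ε) * (s k + ε) = 0 := by linear_combination hs k - hε
      rcases mul_eq_zero.1 h0 with h' | h'
      · exact hno k (by rw [hπk, sub_eq_zero.1 h'])
      · exact hk' (by rw [hπk, eq_neg_of_add_eq_zero_left h'])
    have hd : Disjoint R (R.image π) := by
      rw [Finset.disjoint_left]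
      intro k hk hk'
      obtain ⟨r, hr, rfl⟩ := Finset.mem_image.1 hk'
      have h1 := (Finset.mem_filter.1 hk).2
      rw [hππ] at h1
      exact hfix r (Finset.mem_filter.1 hr).1
        (e.injective (le_antisymm h1 (Finset.mem_filter.1 hr).2))
    rw [Finset.Subset.antisymm hsub (Finset.union_subset (Finset.filter_subset _ _) fun k hk => by
      obtain ⟨r, hr, rfl⟩ := Finset.mem_image.1 hk
      exact hSπ r (Finset.mem_filter.1 hr).1), Finset.card_union_of_disjoint hd,
      Finset.card_image_of_injective _ (fun a b h => by rw [← hππ a, h, hππ])]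
    ring
  · have hRS : R = S := Finset.eq_of_subset_of_card_le (Finset.filter_subset _ _) hcard.le
    have h1 := (Finset.mem_filter.1 (hRS.symm ▸ hk : k ∈ R)).2
    have h2' := (Finset.mem_filter.1 (hRS.symm ▸ hSπ k hk : π k ∈ R)).2
    rw [hππ] at h2'
    have hk' := (hmemS k).1 hk
    have hπk := hπ k
    rw [← e.injective (le_antisymm h1 h2')] at hπk
    have h0 : (s k - ε) * (s k + ε) = 0 := by linear_combination hs k - hε
    rcases mul_eq_zero.1 h0 with h' | h'
    · rw [hπk, sub_eq_zero.1 h']
    · exact absurd (by rw [hπk, eq_neg_of_add_eq_zero_left h']) hk'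

/-- The two eigenspaces of an involution fill the space. -/
theorem finrank_eig_add (h2 : Two F) {u : OG ι F} (huu : ∀ v, u.1 (u.1 v) = v) :
    finrank F (fixSpace u) + finrank F (eigSp u (-1)) = Fintype.card ι := by
  have hd : fixSpace u ⊓ eigSp u (-1) = ⊥ := by
    rw [eq_bot_iff]
    rintro v ⟨h1, h1'⟩
    have e := (mem_fixSpace.1 h1).symm.trans (mem_eigSp.1 h1')
    rw [neg_one_smul] at e
    rw [Submodule.mem_bot]
    funext i
    have := congrFun e i
    rw [Pi.neg_apply] at this
    exact (mul_eq_zero.1 (by linear_combination this : (2 : F) * v i = 0)).resolve_left h2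
  have ht : fixSpace u ⊔ eigSp u (-1) = ⊤ := by
    rw [eq_top_iff]
    intro v _
    refine Submodule.mem_sup.2 ⟨(2 : F)⁻¹ • (v + u.1 v), ?_, (2 : F)⁻¹ • (v - u.1 v), ?_, ?_⟩
    · rw [mem_fixSpace, map_smul, map_add, huu, add_comm]
    · rw [mem_eigSp, map_smul, map_sub, huu, neg_one_smul, ← smul_neg, neg_sub]
    · rw [← smul_add, add_add_sub_cancel, ← two_smul F v, smul_smul, inv_mul_cancel₀ h2, one_smul]
  have := Submodule.finrank_sup_add_finrank_inf_eq (fixSpace u) (eigSp u (-1))
  rw [hd, ht, finrank_bot, finrank_top, Module.finrank_fintype_fun_eq_card] at this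
  omega

/-- A coordinate vector in a small eigenspace of an involution with monomial conjugate gives a
column of small support. -/
theorem supp_inv_le_of_eig (h2 : Two F) {g u : OG ι F} (huu : ∀ v, u.1 (u.1 v) = v)
    (hm : Mon (g⁻¹ * u * g)) {ε : F} (hε : ε * ε = 1) {l : ι} (hl : u.1 (sv F l) = ε • sv F l) :
    (supp ((g⁻¹ : OG ι F).1 (sv F l))).card ≤ 2 * finrank F (eigSp u ε) := by
  have hu' : ∀ v, (g⁻¹ * u * g).1 v = (g⁻¹ : OG ι F).1 (u.1 (g.1 v)) := fun v => by
    simp only [mul_app]
  obtain ⟨R, S, -, -, hsupp, hle, hd, -, -⟩ := eig_orbits h2 hm (fun v => by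
    rw [hu', hu', app_inv, huu, inv_app]) hε
  have hmem : (g⁻¹ : OG ι F).1 (sv F l) ∈ eigSp (g⁻¹ * u * g) ε := by
    rw [mem_eigSp, hu', app_inv, hl, map_smul]
  have hle' : finrank F (eigSp (g⁻¹ * u * g) ε) ≤ finrank F (eigSp u ε) := by
    rw [← LinearEquiv.finrank_map_eq g.1]
    refine Submodule.finrank_mono ?_
    rintro _ ⟨v, hv, rfl⟩
    have h := congrArg g.1 ((hu' v).symm.trans (mem_eigSp.1 hv))
    rw [app_inv, map_smul] at h
    exact mem_eigSp.2 h
  have := Finset.card_le_card (hsupp _ hmem)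
  omega

end Cfsg.Agent.DecompMax.OF
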